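import Groth.Agent.PCoh.K225.PC
import Mathlib.Algebra.Homology.DerivedCategory.SingleTriangle

/-!
# `n`-pseudo-coherent objects of the derived category (punctual case), II

* `exists_factor`: relative resolutions.
* `NPC.isOfFiniteType`, `NPC.of_isOfFiniteType`: the top cohomology.
* `sltHom`, `ses_stupid`: stupid truncations.
* `NPC.of_termwise`, `NPC.of_homology`.
-/

set_option autoImplicit false

open CategoryTheory CategoryTheory.Limits CategoryTheory.Pretriangulated CategoryTheory.Triangulated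
open scoped ZeroObject

universe w v u

namespace K225.PC

open DerivedCategory CochainComplex CochainComplex.HomComplex Groth.Agent.CalgB.DerTri Groth.Agent.CalgB.DerRes
  Groth.Agent.Pic13.H565.QLift K225.Att

variable {C : Type u} [Category.{v} C] [Abelian C] {P : ObjectProperty C}

section

variable [HasDerivedCategory.{w} C]

theorem zeroConeIso (K : CochainComplex C ℤ) :
    Nonempty (Q.obj K ≅ Q.obj (mappingCone (0 : (0 : CochainComplex C ℤ) ⟶ K))) := by
  have hT := mappingCone_triangle_distinguished (0 : (0 : CochainComplex C ℤ) ⟶ K)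
  have h0 : IsIso ((Q.mapTriangle.obj (mappingCone.triangle (0 : (0 : CochainComplex C ℤ) ⟶ K))).mor₂) := by
    rw [← Triangle.isZero₁_iff_isIso₂ _ hT]
    exact Q.map_isZero (isZero_zero _)
  exact ⟨@asIso _ _ _ _ _ h0⟩

omit [HasDerivedCategory.{w} C] in
theorem isZero_zero_X (i : ℤ) : IsZero ((0 : CochainComplex C ℤ).X i) :=
  (HomologicalComplex.eval C (ComplexShape.up ℤ) i).map_isZero (isZero_zero _)

theorem exists_top_cone (hP : Hyp P) {E K : CochainComplex C ℤ} (f : E ⟶ K) (m : ℤ)
    (hE : PCoh.IsStrictPC P (m + 1) E) (hK : NPC P m (Q.obj K)) (hLE : (Q.obj (mappingCone f)).IsLE m) :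
    ∃ (F : C) (q : F ⟶ (mappingCone f).cycles m), P F ∧ Epi (q ≫ (mappingCone f).homologyπ m) := by
  obtain ⟨M', ⟨⟨b, hb⟩, hM'⟩, ⟨e⟩⟩ := NPC.obj₃ hP m (mappingCone_triangle_distinguished f)
    (⟨E, hE, ⟨Iso.refl _⟩⟩) hK
  exact exists_top hP _ M' e.symm m b hb hM' hLE

/-- Relative resolutions: `S` is the set of degrees in which the terms should be in `P`. -/
theorem exists_factor (hP : Hyp P) (S : ℤ → Prop) (hS : ∀ i j, i ≤ j → S i → S j) {E₀ K : CochainComplex C ℤ}
    (f₀ : E₀ ⟶ K) (hE₀b : ∃ b, ∀ i, b < i → IsZero (E₀.X i)) (hE₀ : ∀ i, S i → P (E₀.X i))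
    (hK : ∀ m, S m → NPC P m (Q.obj K)) (b : ℤ) (hb : (Q.obj (mappingCone f₀)).IsLE b) :
    ∃ (E : CochainComplex C ℤ) (ι : E₀ ⟶ E) (f : E ⟶ K), ι ≫ f = f₀ ∧ QuasiIso f ∧
      (∃ b, ∀ i, b < i → IsZero (E.X i)) ∧ (∀ i, S i → P (E.X i)) ∧ (∀ i, Mono (ι.f i)) ∧
      (∀ i, b < i → IsIso (ι.f i)) := by
  obtain ⟨b₀, hb₀⟩ := hE₀b
  have hmem : ∀ (E : CochainComplex C ℤ) (ι : E₀ ⟶ E), (∀ i, Dir (fun X => S i → P X) (ι.f i)) →
      ∀ i, S i → P (E.X i) := fun E ι h i hi => by
    have h1 : Dir P (ι.f i) := by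
      obtain ⟨F, e, hF, he⟩ := h i
      exact ⟨F, e, hF hi, he⟩
    exact h1.mem hP.iso hP.sum (hE₀ i hi)
  have hbd : ∀ (E : CochainComplex C ℤ) (ι : E₀ ⟶ E), (∀ i, b < i → IsIso (ι.f i)) →
      ∀ i, max b b₀ < i → IsZero (E.X i) := fun E ι h i hi => by
    have := h i (by omega)
    exact IsZero.of_iso (hb₀ i (by omega)) (asIso (ι.f i)).symm
  have h : AttData (fun i X => S i → P X) f₀ b :=
    { P_iso := fun i X Y e h hi => hP.iso e (h hi)
      P_zero := fun i X h hi => hP.zero h
      top := fun E ι f m hm _ hE hEP hLE => by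
        by_cases hmn : S m
        · obtain ⟨F, q, hF, hq⟩ := exists_top_cone hP f m ⟨⟨_, hbd E ι (fun i hi => hE i (Or.inr hi))⟩,
            fun i hi => hmem E ι hEP i (hS m i (by omega) hmn)⟩ (hK m hmn) hLE
          exact ⟨F, q, fun _ => hF, hq⟩
        · refine ⟨_, 𝟙 _, fun h => absurd h hmn, ?_⟩
          rw [Category.id_comp]
          infer_instance }
  obtain ⟨E, ι, f, hfac, hf, hE, hE'⟩ := exists_factorization h hb
  exact ⟨E, ι, f, hfac, hf, ⟨_, hbd E ι hE'⟩, hmem E ι hE, fun i => (hE i).mono, hE'⟩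

/-- Absolute resolutions: `S` is the set of degrees in which the terms should be in `P`. -/
theorem exists_resol (hP : Hyp P) (S : ℤ → Prop) (hS : ∀ i j, i ≤ j → S i → S j) (K : CochainComplex C ℤ)
    (hK : ∀ m, S m → NPC P m (Q.obj K)) (b : ℤ) (hb : (Q.obj K).IsLE b) :
    ∃ (E : CochainComplex C ℤ) (f : E ⟶ K), QuasiIso f ∧ (∀ i, b < i → IsZero (E.X i)) ∧ (∀ i, S i → P (E.X i)) := by
  obtain ⟨e⟩ := zeroConeIso K
  obtain ⟨E, ι, f, -, hf, -, hE, -, hE'⟩ := exists_factor hP S hS (0 : (0 : CochainComplex C ℤ) ⟶ K)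
    ⟨0, fun i _ => isZero_zero_X i⟩ (fun i _ => hP.zero (isZero_zero_X i)) hK b (TStructure.t.isLE_of_iso e b)
  refine ⟨E, f, hf, fun i hi => ?_, hE⟩
  have := hE' i hi
  exact IsZero.of_iso (isZero_zero_X i) (asIso (ι.f i)).symm

/-- The top cohomology of an `n`-pseudo-coherent object. -/
theorem NPC.isOfFiniteType (hqs : PCoh.IsQuasiStableUnderKernels P) {n : ℤ} {F : DerivedCategory C}
    (h : NPC P n F) (hF : F.IsLE n) : PCoh.IsOfFiniteType P ((homologyFunctor C n).obj F) := by
  obtain ⟨E, ⟨⟨b, hb⟩, hE⟩, ⟨e⟩⟩ := h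
  have hLE : (Q.obj E).IsLE n := TStructure.t.isLE_of_iso e.symm n
  have h1 := isOfFiniteType_cycles' hqs E n b hb hE (exactAt_of_isLE E n hLE)
  have h2 : PCoh.IsOfFiniteType P (E.homology n) := isOfFiniteType_of_epi (E.homologyπ n) h1
  let e' : E.homology n ≅ (homologyFunctor C n).obj F :=
    ((homologyFunctorFactors C n).app E).symm ≪≫ (homologyFunctor C n).mapIso e
  exact isOfFiniteType_of_iso e' h2

theorem NPC.of_isOfFiniteType (hP : Hyp P) (n : ℤ) (F : DerivedCategory C) (hF : F.IsLE n)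
    (h : PCoh.IsOfFiniteType P ((homologyFunctor C n).obj F)) : NPC P n F := by
  obtain ⟨L, -, ⟨e⟩⟩ := exists_iso_Q_obj_of_isLE F n
  obtain ⟨e'⟩ := zeroConeIso L
  have hLE : (Q.obj (mappingCone (0 : (0 : CochainComplex C ℤ) ⟶ L))).IsLE n :=
    TStructure.t.isLE_of_iso (e ≪≫ e') n
  let a : (homologyFunctor C n).obj F ≅ (mappingCone (0 : (0 : CochainComplex C ℤ) ⟶ L)).homology n :=
    (homologyFunctor C n).mapIso (e ≪≫ e') ≪≫ (homologyFunctorFactors C n).app _
  obtain ⟨G, π, hG, hπ⟩ := isOfFiniteType_of_iso a h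
  obtain ⟨G', q, hG', hq⟩ := exists_lift hP
    ((mappingCone (0 : (0 : CochainComplex C ℤ) ⟶ L)).homologyπ n) π hG
  obtain ⟨E', ι, f', -, hι, ⟨a, -⟩, hLE'⟩ := att_step (0 : (0 : CochainComplex C ℤ) ⟶ L) n hLE q hq
  have hE' : PCoh.IsStrictPC P n E' := by
    refine ⟨⟨n, fun i hi => ?_⟩, fun i _ => ?_⟩
    · have := hι i (by omega)
      exact IsZero.of_iso (isZero_zero_X i) (asIso (ι.f i)).symm
    · by_cases hi : i = n
      · subst hi
        exact hP.iso a.symm (hP.sum hG' (hP.zero (isZero_zero_X i)))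
      · have := hι i hi
        exact hP.zero (IsZero.of_iso (isZero_zero_X i) (asIso (ι.f i)).symm)
  exact (NPC.obj₂ hP n (mappingCone_triangle_distinguished f') ⟨E', hE', ⟨Iso.refl _⟩⟩
    (NPC.of_isLE hP n (n - 1) (by omega) _ hLE')).of_iso e.symm

end

section Stupid

open Classical in
/-- The terms of the stupid truncation `σ_{< m} E`. -/
noncomputable def sltX (E : CochainComplex C ℤ) (m i : ℤ) : C := if i < m then E.X i else (0 : C)

open Classical in
/-- The section, in degree `i`. -/
noncomputable def sltι (E : CochainComplex C ℤ) (m i : ℤ) : sltX E m i ⟶ E.X i :=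
  if h : i < m then eqToHom (if_pos h) else 0

open Classical in
/-- The projection to the stupid truncation, in degree `i`. -/
noncomputable def sltπ (E : CochainComplex C ℤ) (m i : ℤ) : E.X i ⟶ sltX E m i :=
  if h : i < m then eqToHom (if_pos h).symm else 0

theorem sltX_isZero (E : CochainComplex C ℤ) (m i : ℤ) (h : m ≤ i) : IsZero (sltX E m i) := by
  unfold sltX
  rw [if_neg (by omega)]
  exact isZero_zero C

theorem sltι_sltπ (E : CochainComplex C ℤ) (m i : ℤ) : sltι E m i ≫ sltπ E m i = 𝟙 _ := by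
  by_cases h : i < m
  · unfold sltι sltπ
    rw [dif_pos h, dif_pos h]
    exact (eqToHom_trans _ _).trans (eqToHom_refl _ _)
  · exact (sltX_isZero E m i (by omega)).eq_of_src _ _

theorem sltπ_sltι (E : CochainComplex C ℤ) (m i : ℤ) (h : i < m) : sltπ E m i ≫ sltι E m i = 𝟙 _ := by
  unfold sltι sltπ
  rw [dif_pos h, dif_pos h]
  exact (eqToHom_trans _ _).trans (eqToHom_refl _ _)

/-- The stupid truncation `σ_{< m} E`. -/
noncomputable def slt (E : CochainComplex C ℤ) (m : ℤ) : CochainComplex C ℤ where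
  X i := sltX E m i
  d i j := sltι E m i ≫ E.d i j ≫ sltπ E m j
  shape i j h := by rw [E.shape i j h]; simp
  d_comp_d' i j k _ _ := by
    by_cases h : j < m
    · have := sltπ_sltι E m j h
      simp only [Category.assoc]
      rw [reassoc_of% this]
      simp
    · rw [(sltX_isZero E m j (by omega)).eq_of_tgt (sltι E m i ≫ E.d i j ≫ sltπ E m j) 0, zero_comp]

/-- The projection `E → σ_{< m} E`. -/
noncomputable def sltHom (E : CochainComplex C ℤ) (m : ℤ) : E ⟶ slt E m where
  f i := sltπ E m i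
  comm' i j hij := by
    dsimp [slt]
    by_cases h : i < m
    · rw [reassoc_of% (sltπ_sltι E m i h)]
    · have hij' : i + 1 = j := hij
      rw [(sltX_isZero E m j (by omega)).eq_of_tgt (sltπ E m j) 0]
      simp

theorem slt_isZero (E : CochainComplex C ℤ) (m i : ℤ) (h : m ≤ i) : IsZero ((slt E m).X i) := sltX_isZero E m i h

theorem isIso_sltHom_f (E : CochainComplex C ℤ) (m i : ℤ) (h : i < m) : IsIso ((sltHom E m).f i) :=
  ⟨sltι E m i, sltπ_sltι E m i h, sltι_sltπ E m i⟩

theorem sge_slt (E : CochainComplex C ℤ) (m : ℤ) : sgeHom E m ≫ sltHom E m = 0 := by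
  ext i
  by_cases h : i < m
  · exact (sge_isZero E m i h).eq_of_src _ _
  · exact (slt_isZero E m i (by omega)).eq_of_tgt _ _

/-- The short exact sequence of stupid truncations. -/
theorem ses_stupid (E : CochainComplex C ℤ) (m : ℤ) :
    (ShortComplex.mk (sgeHom E m) (sltHom E m) (sge_slt E m)).ShortExact := by
  apply HomologicalComplex.shortExact_of_degreewise_shortExact
  intro i
  by_cases h : i < m
  · have h1 := isIso_sltHom_f E m i h
    have h0 := sge_isZero E m i h
    refine
      { exact := ?_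
        mono_f := ⟨fun _ _ _ => h0.eq_of_tgt _ _⟩
        epi_g := by change Epi ((sltHom E m).f i); infer_instance }
    rw [ShortComplex.exact_iff_mono _ (h0.eq_of_src _ _)]
    change Mono ((sltHom E m).f i)
    infer_instance
  · have h1 := isIso_sgeHom_f E m i (by omega)
    have h0 := slt_isZero E m i (by omega)
    refine
      { exact := ?_
        mono_f := by change Mono ((sgeHom E m).f i); infer_instance
        epi_g := ⟨fun _ _ _ => h0.eq_of_src _ _⟩ }
    rw [ShortComplex.exact_iff_epi _ (h0.eq_of_tgt _ _)]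
    change Epi ((sgeHom E m).f i)
    infer_instance

/-- A complex concentrated in degree `n`. -/
theorem iso_single (E : CochainComplex C ℤ) (n : ℤ) (h : ∀ i, i ≠ n → IsZero (E.X i)) :
    Nonempty (E ≅ (HomologicalComplex.single C (ComplexShape.up ℤ) n).obj (E.X n)) := by
  let φ := HomologicalComplex.mkHomToSingle (K := E) (𝟙 (E.X n)) (fun i hi => by
    have : i + 1 = n := hi
    exact (h i (by omega)).eq_of_src _ _)
  have : ∀ i, IsIso (φ.f i) := fun i => by
    by_cases hi : i = n
    · subst hi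
      rw [HomologicalComplex.mkHomToSingle_f]
      infer_instance
    · exact ⟨0, (h i hi).eq_of_src _ _, (HomologicalComplex.isZero_single_obj_X _ _ _ _ hi).eq_of_src _ _⟩
  have : IsIso φ := HomologicalComplex.Hom.isIso_of_components φ
  exact ⟨asIso φ⟩

end Stupid

section

variable [HasDerivedCategory.{w} C]

/-- A complex concentrated in degree `n`, in the derived category. -/
theorem iso_single' (E : CochainComplex C ℤ) (n : ℤ) (h : ∀ i, i ≠ n → IsZero (E.X i)) :
    Nonempty (Q.obj E ≅ (DerivedCategory.singleFunctor C n).obj (E.X n)) := by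
  obtain ⟨e⟩ := iso_single E n h
  exact ⟨Q.mapIso e ≪≫ ((singleFunctorIsoCompQ C n).app _).symm⟩

theorem NPC.single {n m k : ℤ} (hk : m + k = n) {X : C} (h : NPC P m ((DerivedCategory.singleFunctor C 0).obj X)) :
    NPC P n ((DerivedCategory.singleFunctor C k).obj X) :=
  NPC.of_shift k m hk (h.of_iso (((DerivedCategory.singleFunctors C).shiftIso k 0 k (by omega)).app X).symm)

theorem NPC.of_single {n m k : ℤ} (hk : m + k = n) {X : C} (h : NPC P n ((DerivedCategory.singleFunctor C k).obj X)) :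
    NPC P m ((DerivedCategory.singleFunctor C 0).obj X) :=
  (h.shift k m hk).of_iso (((DerivedCategory.singleFunctors C).shiftIso k 0 k (by omega)).app X)

theorem NPC.of_mem (hP : Hyp P) (n : ℤ) {X : C} (h : P X) : NPC P n ((DerivedCategory.singleFunctor C 0).obj X) := by
  refine ⟨(HomologicalComplex.single C (ComplexShape.up ℤ) 0).obj X, ⟨⟨0, fun i hi => ?_⟩, fun i _ => ?_⟩,
    ⟨((singleFunctorIsoCompQ C 0).app X).symm⟩⟩
  · exact HomologicalComplex.isZero_single_obj_X _ _ _ _ (by omega)
  · by_cases hi : i = 0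
    · subst hi
      exact hP.iso (HomologicalComplex.singleObjXSelf (ComplexShape.up ℤ) 0 X).symm h
    · exact hP.zero (HomologicalComplex.isZero_single_obj_X _ _ _ _ hi)

/-- Bounded above complexes whose terms are pseudo-coherent to the appropriate order. -/
theorem NPC.of_termwise (hP : Hyp P) (n : ℤ) (k : ℕ) : ∀ (F : CochainComplex C ℤ)
    (_ : ∀ i : ℤ, n + k ≤ i → IsZero (F.X i))
    (_ : ∀ i : ℤ, n ≤ i → NPC P (n - i) ((DerivedCategory.singleFunctor C 0).obj (F.X i))),
    NPC P n (Q.obj F) := by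
  induction k with
  | zero =>
    intro F hb _
    exact ⟨F, ⟨⟨n - 1, fun i hi => hb i (by push_cast; omega)⟩,
      fun i hi => hP.zero (hb i (by push_cast; omega))⟩, ⟨Iso.refl _⟩⟩
  | succ k ih =>
    intro F hb hF
    refine NPC.obj₂ hP n (triangleOfSES_distinguished (ses_stupid F (n + k))) ?_ ?_
    · change NPC P n (Q.obj (sge F (n + k)))
      obtain ⟨e⟩ := iso_single' (sge F (n + k)) (n + k) (fun i hi => by
        by_cases h : i < n + k
        · exact sge_isZero F _ i h
        · exact IsZero.of_iso (hb i (by push_cast; omega)) (sgeXIso F (n + k) i (by omega)))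
      refine NPC.of_iso ?_ e.symm
      refine NPC.single (m := n - (n + k)) (by omega) ?_
      exact (hF (n + k) (by omega)).of_iso
        ((DerivedCategory.singleFunctor C 0).mapIso (sgeXIso F (n + k) (n + k) le_rfl)).symm
    · change NPC P n (Q.obj (slt F (n + k)))
      refine ih _ (fun i hi => slt_isZero F _ i hi) (fun i hi => ?_)
      by_cases h : i < n + k
      · have := isIso_sltHom_f F (n + k) i h
        exact (hF i hi).of_iso ((DerivedCategory.singleFunctor C 0).mapIso (asIso ((sltHom F (n + k)).f i)))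
      · have : IsZero ((DerivedCategory.singleFunctor C 0).obj ((slt F (n + k)).X i)) :=
          (DerivedCategory.singleFunctor C 0).map_isZero (slt_isZero F _ i (by omega))
        refine NPC.of_isLE hP _ (n - i - 1) (by omega) _ ?_
        rw [DerivedCategory.isLE_iff]
        intro j hj
        exact (homologyFunctor C j).map_isZero this

end

end K225.PC
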