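import Groth.Agent.CalgB.DerRes
import Mathlib.CategoryTheory.Limits.Constructions.EventuallyConstant

/-!
# Relative stepwise construction of resolutions

Let `f₀ : E₀ ⟶ K` be a morphism of cochain complexes whose cone has no cohomology in degrees `> b`. We attach cells
(objects of classes `P m`, in degrees `m ≤ b`) to `E₀` so that `f₀` becomes a quasi-isomorphism:
`exists_factorization`. One step of the construction: `att_step`.

Adapted from `Groth.Agent.Pic13.H565.QLRes` (which treats `E₀ = 0`).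
-/

set_option autoImplicit false

open CategoryTheory CategoryTheory.Limits CategoryTheory.Pretriangulated CategoryTheory.Triangulated
open scoped ZeroObject

universe w v u

namespace K225.Att

open DerivedCategory CochainComplex CochainComplex.HomComplex Groth.Agent.CalgB.DerTri Groth.Agent.CalgB.DerRes

variable {C : Type u} [Category.{v} C] [Abelian C]

/-- `φ : X ⟶ Y` is the inclusion of a direct factor with complement in `P`. -/
def Dir (P : ObjectProperty C) {X Y : C} (φ : X ⟶ Y) : Prop :=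
  ∃ (F : C) (e : Y ≅ F ⊞ X), P F ∧ φ ≫ e.hom = biprod.inr

theorem Dir.mono {P : ObjectProperty C} {X Y : C} {φ : X ⟶ Y} (h : Dir P φ) : Mono φ := by
  obtain ⟨F, e, -, he⟩ := h
  have : Mono (φ ≫ e.hom) := by rw [he]; infer_instance
  exact mono_of_mono φ e.hom

theorem Dir.of_isIso {P : ObjectProperty C} (hz : ∀ {Z : C}, IsZero Z → P Z) {X Y : C} (φ : X ⟶ Y) [IsIso φ] :
    Dir P φ := by
  refine ⟨0, (asIso φ).symm ≪≫ ⟨biprod.inr, biprod.snd, by simp, ?_⟩, hz (isZero_zero C), by simp⟩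
  apply biprod.hom_ext'
  · exact (isZero_zero C).eq_of_src _ _
  · simp

theorem Dir.comp_isIso {P : ObjectProperty C} {X Y Z : C} {φ : X ⟶ Y} (h : Dir P φ) (ψ : Y ⟶ Z) [IsIso ψ] :
    Dir P (φ ≫ ψ) := by
  obtain ⟨F, e, hF, he⟩ := h
  exact ⟨F, (asIso ψ).symm ≪≫ e, hF, by simp [he]⟩

theorem Dir.isIso_comp {P : ObjectProperty C} {X Y Z : C} (φ : X ⟶ Y) [IsIso φ] {ψ : Y ⟶ Z} (h : Dir P ψ) :
    Dir P (φ ≫ ψ) := by
  obtain ⟨F, e, hF, he⟩ := h
  refine ⟨F, e ≪≫ biprod.mapIso (Iso.refl _) (asIso φ).symm, hF, ?_⟩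
  rw [Iso.trans_hom, Category.assoc, reassoc_of% he]
  simp

theorem Dir.mem {P : ObjectProperty C} (hiso : ∀ {X Y : C}, (X ≅ Y) → P X → P Y)
    (hsum : ∀ {X Y : C}, P X → P Y → P (X ⊞ Y)) {X Y : C} {φ : X ⟶ Y} (h : Dir P φ) (hX : P X) : P Y := by
  obtain ⟨F, e, hF, -⟩ := h
  exact hiso e.symm (hsum hF hX)

theorem Dir.cokernel {P : ObjectProperty C} (hiso : ∀ {X Y : C}, (X ≅ Y) → P X → P Y) {X Y : C} {φ : X ⟶ Y}
    (h : Dir P φ) : P (cokernel φ) := by
  obtain ⟨F, e, hF, he⟩ := h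
  have hw : φ ≫ (e.hom ≫ biprod.fst) = 0 := by rw [reassoc_of% he]; simp
  refine hiso (IsColimit.coconePointUniqueUpToIso
    (CokernelCofork.IsColimit.ofπ (e.hom ≫ biprod.fst) hw (fun g _ => biprod.inl ≫ e.inv ≫ g) (fun g hg => ?_)
      (fun g hg m hm => ?_)) (colimit.isColimit _)) hF
  · have h1 : (biprod.inr : X ⟶ F ⊞ X) ≫ e.inv ≫ g = 0 := by rw [← he]; simpa using hg
    have h2 : e.inv ≫ g = biprod.fst ≫ biprod.inl ≫ e.inv ≫ g := by
      apply biprod.hom_ext' <;> simp [h1]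
    rw [Category.assoc, ← h2, Iso.hom_inv_id_assoc]
  · rw [← hm]
    simp

/-- The terms of a mapping cone. -/
noncomputable def coneXIso {E K : CochainComplex C ℤ} (g : E ⟶ K) (m n : ℤ) (hn : m + 1 = n) :
    (mappingCone g).X m ≅ E.X n ⊞ K.X m where
  hom := biprod.lift ((mappingCone.fst g).1.v m n hn) ((mappingCone.snd g).v m m (add_zero m))
  inv := biprod.desc ((mappingCone.inl g).v n m (by omega)) ((mappingCone.inr g).f m)
  hom_inv_id := by
    rw [biprod.lift_desc]
    exact mappingCone.id_X g m n hn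
  inv_hom_id := by
    apply biprod.hom_ext' <;> apply biprod.hom_ext <;> simp

theorem inr_coneXIso_hom {E K : CochainComplex C ℤ} (g : E ⟶ K) (m n : ℤ) (hn : m + 1 = n) :
    (mappingCone.inr g).f m ≫ (coneXIso g m n hn).hom = biprod.inr := by
  unfold coneXIso
  apply biprod.hom_ext <;> simp

variable [HasDerivedCategory.{w} C]

/-- **Attaching one cell.** -/
theorem att_step {E K : CochainComplex C ℤ} (f : E ⟶ K) (m : ℤ) (hLE : (Q.obj (mappingCone f)).IsLE m)
    {F : C} (q : F ⟶ (mappingCone f).cycles m) (hq : Epi (q ≫ (mappingCone f).homologyπ m)) :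
    ∃ (E' : CochainComplex C ℤ) (ι : E ⟶ E') (f' : E' ⟶ K), ι ≫ f' = f ∧ (∀ i : ℤ, i ≠ m → IsIso (ι.f i)) ∧
      (∃ e : E'.X m ≅ F ⊞ E.X m, ι.f m ≫ e.hom = biprod.inr) ∧ (Q.obj (mappingCone f')).IsLE (m - 1) := by
  obtain ⟨n, hn⟩ : ∃ n : ℤ, m + 1 = n := ⟨_, rfl⟩
  obtain ⟨x, y, hz⟩ := mappingCone.decomp_to f (q ≫ (mappingCone f).iCycles m) n hn
  have hzd : (q ≫ (mappingCone f).iCycles m) ≫ (mappingCone f).d m n = 0 := by simp
  have hzd' := hzd
  rw [hz, Preadditive.add_comp, Category.assoc, Category.assoc,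
    mappingCone.inl_v_d _ n m (n + 1) (by omega) (by omega), mappingCone.inr_f_d] at hzd'
  have hx : x ≫ E.d n (n + 1) = 0 := by
    have h1 := hzd' =≫ (mappingCone.fst f).1.v n (n + 1) rfl
    simpa using h1
  have hxy : x ≫ f.f n = (-y) ≫ K.d m n := by
    have h1 := hzd' =≫ (mappingCone.snd f).v n n (add_zero n)
    simp at h1
    rw [Preadditive.neg_comp]
    exact eq_neg_of_add_eq_zero_left h1
  -- the single complex, the attaching map and the homotopy
  obtain ⟨S, e, g, α, hα, hgn, hαv, hSz, hSd, ⟨eS⟩⟩ := exists_attaching f n m hn x hx (-y) hxy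
  have hcyc : attCyc g f n m hn α = e.hom ≫ q ≫ (mappingCone f).iCycles m := by
    unfold attCyc
    rw [hz, hgn, hαv]
    simp
  have hc : attCyc g f n m hn α ≫ (mappingCone f).d m n = 0 := by
    rw [hcyc, Category.assoc, hzd, comp_zero]
  have hepi : Epi ((mappingCone f).liftCycles (attCyc g f n m hn α) n (by simp [hn]) hc ≫
        (mappingCone f).homologyπ m) := by
    have : (mappingCone f).liftCycles (attCyc g f n m hn α) n (by simp [hn]) hc = e.hom ≫ q := by
      rw [← cancel_mono ((mappingCone f).iCycles m)]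
      simp [hcyc]
    rw [this, Category.assoc]
    exact epi_comp _ _
  have h3 := epi_homologyMap_att g f n m hn α hα hSd hc hepi
  -- the cone of the inclusion
  have hcone : Nonempty (Q.obj (mappingCone (mappingCone.inr g)) ≅ (DerivedCategory.singleFunctor C m).obj F) := by
    obtain ⟨e'⟩ := cone_inr_iso g
    exact ⟨e' ≪≫ eS⟩
  obtain ⟨ec⟩ := hcone
  have hdesc : mappingCone.inr g ≫ mappingCone.desc g α f hα = f := mappingCone.inr_desc g α f hα
  have hinr : ∀ i, i ≠ m → IsIso ((mappingCone.inr g).f i) := fun i hi => by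
    refine ⟨(mappingCone.snd g).v i i (add_zero i), mappingCone.inr_f_snd_v g i, ?_⟩
    have h1 := mappingCone.id_X g i (i + 1) rfl
    rw [← h1, (hSz (i + 1) (by omega)).eq_of_tgt ((mappingCone.fst g).1.v i (i + 1) rfl) 0, zero_comp, zero_add]
  refine ⟨mappingCone g, mappingCone.inr g, mappingCone.desc g α f hα, hdesc, hinr, ?_, ?_⟩
  · refine ⟨coneXIso g m n hn ≪≫ biprod.mapIso e (Iso.refl _), ?_⟩
    rw [Iso.trans_hom, reassoc_of% (inr_coneXIso_hom g m n hn)]
    simp
  · refine cone_step (mappingCone.inr g) (mappingCone.desc g α f hα) m _ (by omega) ?_ ?_ h3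
    · exact TStructure.t.isLE_of_iso ec.symm m
    · rw [hdesc]
      exact hLE

section Stages

variable (P : ℤ → ObjectProperty C) {E₀ K : CochainComplex C ℤ} (f₀ : E₀ ⟶ K) (b : ℤ)

/-- The `k`-th stage of the construction of a factorization of `f₀`. -/
structure Stage (k : ℕ) where
  /-- the complex -/
  E : CochainComplex C ℤ
  /-- the inclusion -/
  ι : E₀ ⟶ E
  /-- the map -/
  f : E ⟶ K
  fac : ι ≫ f = f₀
  isIso : ∀ i : ℤ, i ≤ b - k ∨ b < i → IsIso (ι.f i)
  dir : ∀ i : ℤ, Dir (P i) (ι.f i)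
  isLE : (Q.obj (mappingCone f)).IsLE (b - k)

/-- The hypotheses. -/
structure AttData : Prop where
  P_iso : ∀ (i : ℤ) {X Y : C}, (X ≅ Y) → P i X → P i Y
  P_zero : ∀ (i : ℤ) {X : C}, IsZero X → P i X
  top : ∀ (E : CochainComplex C ℤ) (ι : E₀ ⟶ E) (f : E ⟶ K) (m : ℤ), m ≤ b → ι ≫ f = f₀ →
    (∀ i, i ≤ m ∨ b < i → IsIso (ι.f i)) → (∀ i, Dir (P i) (ι.f i)) → (Q.obj (mappingCone f)).IsLE m →
    ∃ (F : C) (q : F ⟶ (mappingCone f).cycles m), P m F ∧ Epi (q ≫ (mappingCone f).homologyπ m)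

variable {P f₀ b}

theorem stage_zero (h : AttData P f₀ b) (hb : (Q.obj (mappingCone f₀)).IsLE b) : Nonempty (Stage P f₀ b 0) := by
  have h1 : ∀ i : ℤ, IsIso ((𝟙 E₀ : E₀ ⟶ E₀).f i) := fun i => by
    rw [HomologicalComplex.id_f]; infer_instance
  refine ⟨⟨E₀, 𝟙 E₀, f₀, Category.id_comp _, fun i _ => h1 i, fun i => ?_, ?_⟩⟩
  · have := h1 i
    exact Dir.of_isIso (h.P_zero i) _
  · simpa using hb

theorem stage_succ (h : AttData P f₀ b) (k : ℕ) (s : Stage P f₀ b k) :
    ∃ (s' : Stage P f₀ b (k + 1)) (ι : s.E ⟶ s'.E), s.ι ≫ ι = s'.ι ∧ ι ≫ s'.f = s.f ∧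
      ∀ i : ℤ, i ≠ b - k → IsIso (ι.f i) := by
  obtain ⟨F, q, hF, hq⟩ := h.top s.E s.ι s.f (b - k) (by omega) s.fac s.isIso s.dir s.isLE
  obtain ⟨E', j, f', hjf, hj, ⟨e, he⟩, hLE⟩ := att_step s.f (b - k) s.isLE q hq
  refine ⟨⟨E', s.ι ≫ j, f', by rw [Category.assoc, hjf, s.fac], fun i hi => ?_, fun i => ?_, ?_⟩, j, rfl, hjf, hj⟩
  · have h1 := s.isIso i (by push_cast at hi; omega)
    have h2 := hj i (by push_cast at hi; omega)
    rw [HomologicalComplex.comp_f]
    infer_instance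
  · rw [HomologicalComplex.comp_f]
    by_cases hi : i = b - k
    · have h1 := s.isIso i (by omega)
      subst hi
      exact Dir.isIso_comp _ ⟨F, e, hF, he⟩
    · have h2 := hj i hi
      exact Dir.comp_isIso (s.dir i) _
  · have : b - ((k + 1 : ℕ) : ℤ) = b - k - 1 := by push_cast; ring
    rw [this]
    exact hLE

/-- A choice of successive stages. -/
noncomputable def stageSeq (h : AttData P f₀ b) (s₀ : Stage P f₀ b 0) : (k : ℕ) → Stage P f₀ b k
  | 0 => s₀
  | k + 1 => (stage_succ h k (stageSeq h s₀ k)).choose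

/-- The transition maps between the stages. -/
noncomputable def stageι (h : AttData P f₀ b) (s₀ : Stage P f₀ b 0) (k : ℕ) :
    (stageSeq h s₀ k).E ⟶ (stageSeq h s₀ (k + 1)).E :=
  (stage_succ h k (stageSeq h s₀ k)).choose_spec.choose

theorem ι_stageι (h : AttData P f₀ b) (s₀ : Stage P f₀ b 0) (k : ℕ) :
    (stageSeq h s₀ k).ι ≫ stageι h s₀ k = (stageSeq h s₀ (k + 1)).ι :=
  (stage_succ h k (stageSeq h s₀ k)).choose_spec.choose_spec.1

theorem stageι_comp (h : AttData P f₀ b) (s₀ : Stage P f₀ b 0) (k : ℕ) :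
    stageι h s₀ k ≫ (stageSeq h s₀ (k + 1)).f = (stageSeq h s₀ k).f :=
  (stage_succ h k (stageSeq h s₀ k)).choose_spec.choose_spec.2.1

theorem isIso_stageι (h : AttData P f₀ b) (s₀ : Stage P f₀ b 0) (k : ℕ) (i : ℤ) (hi : i ≠ b - k) :
    IsIso ((stageι h s₀ k).f i) :=
  (stage_succ h k (stageSeq h s₀ k)).choose_spec.choose_spec.2.2 i hi

/-- The sequence of the stages. -/
noncomputable def stageFunctor (h : AttData P f₀ b) (s₀ : Stage P f₀ b 0) : ℕ ⥤ CochainComplex C ℤ :=
  Functor.ofSequence (X := fun k => (stageSeq h s₀ k).E) (stageι h s₀)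

theorem stageFunctor_map (h : AttData P f₀ b) (s₀ : Stage P f₀ b 0) (k : ℕ) :
    (stageFunctor h s₀).map (homOfLE (Nat.le_add_right k 1)) = stageι h s₀ k :=
  Functor.ofSequence_map_homOfLE_succ _ _

/-- The cocone on the sequence of the stages given by the maps to `K`. -/
noncomputable def stageCocone (h : AttData P f₀ b) (s₀ : Stage P f₀ b 0) : Cocone (stageFunctor h s₀) where
  pt := K
  ι := NatTrans.ofSequence (fun k => (stageSeq h s₀ k).f) (fun k => by
    rw [stageFunctor_map]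
    exact (stageι_comp h s₀ k).trans (Category.comp_id _).symm)

theorem stageFunctor_isIso (h : AttData P f₀ b) (s₀ : Stage P f₀ b 0) (i : ℤ) (k : ℕ) (hk : b - k < i) :
    (stageFunctor h s₀ ⋙ HomologicalComplex.eval C (ComplexShape.up ℤ) i).IsEventuallyConstantFrom k := by
  have key : ∀ (j l : ℕ) (hl : l = k + j), IsIso ((stageFunctor h s₀ ⋙
      HomologicalComplex.eval C (ComplexShape.up ℤ) i).map (homOfLE (by omega : k ≤ l))) := by
    intro j
    induction j with
    | zero =>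
      rintro l hl
      obtain rfl : l = k := by omega
      have : (homOfLE (le_refl l)) = 𝟙 l := rfl
      rw [this, CategoryTheory.Functor.map_id]
      infer_instance
    | succ j ih =>
      rintro l hl
      obtain rfl : l = (k + j) + 1 := by omega
      have h1 : (homOfLE (by omega : k ≤ k + j + 1)) =
          homOfLE (by omega : k ≤ k + j) ≫ homOfLE (by omega : k + j ≤ k + j + 1) := rfl
      rw [h1, Functor.map_comp]
      have h2 := ih (k + j) rfl
      have h3 : IsIso ((stageFunctor h s₀ ⋙ HomologicalComplex.eval C (ComplexShape.up ℤ) i).map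
          (homOfLE (by omega : k + j ≤ k + j + 1))) := by
        have h4 : (stageFunctor h s₀).map (homOfLE (by omega : k + j ≤ k + j + 1)) = stageι h s₀ (k + j) :=
          stageFunctor_map h s₀ (k + j)
        rw [Functor.comp_map, h4]
        exact isIso_stageι h s₀ (k + j) i (by push_cast; omega)
      exact IsIso.comp_isIso
  intro l φ
  obtain ⟨j, hj⟩ := Nat.exists_eq_add_of_le (leOfHom φ)
  obtain rfl := Subsingleton.elim φ (homOfLE (by omega))
  exact key j l hj

theorem hasColimit_stageFunctor_eval (h : AttData P f₀ b) (s₀ : Stage P f₀ b 0) (i : ℤ) :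
    HasColimit (stageFunctor h s₀ ⋙ HomologicalComplex.eval C (ComplexShape.up ℤ) i) :=
  (stageFunctor_isIso h s₀ i (b - i + 1).toNat (by omega)).hasColimit

end Stages

/-- **Factorizations.** See the module docstring. -/
theorem exists_factorization {P : ℤ → ObjectProperty C} {E₀ K : CochainComplex C ℤ} {f₀ : E₀ ⟶ K} {b : ℤ}
    (h : AttData P f₀ b) (hb : (Q.obj (mappingCone f₀)).IsLE b) :
    ∃ (E : CochainComplex C ℤ) (ι : E₀ ⟶ E) (f : E ⟶ K), ι ≫ f = f₀ ∧ QuasiIso f ∧ (∀ i, Dir (P i) (ι.f i)) ∧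
      ∀ i, b < i → IsIso (ι.f i) := by
  obtain ⟨s₀⟩ := stage_zero h hb
  obtain ⟨L, a, d, had, haι, hiso⟩ : ∃ (L : CochainComplex C ℤ) (a : ∀ k, (stageSeq h s₀ k).E ⟶ L) (d : L ⟶ K),
      (∀ k, a k ≫ d = (stageSeq h s₀ k).f) ∧ (∀ k, stageι h s₀ k ≫ a (k + 1) = a k) ∧
        ∀ (i : ℤ) (k : ℕ), b - k < i → IsIso ((a k).f i) := by
    have := hasColimit_stageFunctor_eval h s₀
    refine ⟨_, (colimit.cocone (stageFunctor h s₀)).ι.app, (colimit.isColimit (stageFunctor h s₀)).desc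
      (stageCocone h s₀), fun k => (colimit.isColimit (stageFunctor h s₀)).fac (stageCocone h s₀) k, fun k => ?_,
      fun i k hk => (stageFunctor_isIso h s₀ i k hk).isIso_ι_of_isColimit
      (isColimitOfPreserves (HomologicalComplex.eval C (ComplexShape.up ℤ) i)
        (colimit.isColimit (stageFunctor h s₀)))⟩
    have := (colimit.cocone (stageFunctor h s₀)).w (homOfLE (Nat.le_add_right k 1))
    rw [stageFunctor_map] at this
    exact this
  have hι : ∀ k : ℕ, (stageSeq h s₀ k).ι ≫ a k = (stageSeq h s₀ 0).ι ≫ a 0 := by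
    intro k
    induction k with
    | zero => rfl
    | succ k ih => rw [← ih, ← ι_stageι, Category.assoc, haι]
  refine ⟨L, (stageSeq h s₀ 0).ι ≫ a 0, d, ?_, ?_, fun i => ?_, fun i hi => ?_⟩
  · rw [Category.assoc, had]
    exact (stageSeq h s₀ 0).fac
  · rw [quasiIso_iff]
    intro i
    obtain ⟨k, hk⟩ : ∃ k : ℕ, b - k < i - 1 := ⟨(b - i + 2).toNat, by omega⟩
    have h1 : QuasiIsoAt (a k) i :=
      quasiIsoAt_of_isIso _ i (hiso _ k hk) (hiso _ k (by omega)) (hiso _ k (by omega))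
    have h2 : QuasiIsoAt (a k ≫ d) i := by
      rw [had, ← isIso_homologyFunctor_map_Q_iff]
      exact ((isLE_obj₃_iff (mappingCone_triangle_distinguished (stageSeq h s₀ k).f) (b - k + 1) (b - k) (by omega)).1
        (stageSeq h s₀ k).isLE).1 i (by omega)
    exact (quasiIsoAt_iff_comp_left (a k) _ i).1 h2
  · obtain ⟨k, hk⟩ : ∃ k : ℕ, b - k < i := ⟨(b - i + 2).toNat, by omega⟩
    have := hiso i k hk
    rw [← hι k, HomologicalComplex.comp_f]
    exact Dir.comp_isIso ((stageSeq h s₀ k).dir i) _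
  · have := hiso i 0 (by simpa using hi)
    have := (stageSeq h s₀ 0).isIso i (Or.inr hi)
    rw [HomologicalComplex.comp_f]
    infer_instance

end K225.Att
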