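import Groth.Prelude.Def_PCoh
import Mathlib.CategoryTheory.Abelian.Refinements
import Mathlib.Algebra.Homology.ShortComplex.ShortExact
import Mathlib.CategoryTheory.Preadditive.Biproducts

/-!
# Objects of finite type and precoherent objects with respect to a quasi-liftable class of objects

`Precoh P H`: every morphism from an object of `P` into `H` has a kernel of finite type.
-/

set_option autoImplicit false

open CategoryTheory CategoryTheory.Limits

universe v u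

namespace K225.Coh

open PCoh

variable {C : Type u} [Category.{v} C] [Abelian C] {P : ObjectProperty C}

variable (P) in
/-- `H` is precoherent. -/
def Precoh (H : C) : Prop := ∀ (E : C) (u : E ⟶ H), P E → IsOfFiniteType P (kernel u)

/-- The hypotheses on the class `P`. -/
structure LHyp (P : ObjectProperty C) : Prop where
  iso : ∀ {X Y : C}, (X ≅ Y) → P X → P Y
  zero : ∀ {X : C}, IsZero X → P X
  sum : ∀ {X Y : C}, P X → P Y → P (X ⊞ Y)
  ql : IsQuasiLiftable P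

theorem LHyp.mk' (P : ObjectProperty C) [P.IsClosedUnderIsomorphisms] [P.ContainsZero]
    (hsum : ∀ X Y : C, P X → P Y → P (X ⨯ Y)) (hql : IsQuasiLiftable P) : LHyp P where
  iso e h := P.prop_of_iso e h
  zero {X} hX := by
    obtain ⟨Z, hZ, hPZ⟩ := ObjectProperty.ContainsZero.exists_zero (P := P)
    exact P.prop_of_iso (hZ.iso hX) hPZ
  sum {X Y} hX hY := P.prop_of_iso (biprod.isoProd X Y).symm (hsum X Y hX hY)
  ql := hql

theorem ft_of_epi {X Y : C} (f : X ⟶ Y) (hf : Epi f) (h : IsOfFiniteType P X) : IsOfFiniteType P Y := by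
  obtain ⟨E, π, hE, hπ⟩ := h
  exact ⟨E, π ≫ f, hE, epi_comp _ _⟩

theorem ft_of_iso {X Y : C} (e : X ≅ Y) (h : IsOfFiniteType P X) : IsOfFiniteType P Y :=
  ft_of_epi e.hom inferInstance h

theorem ft_of_mem {X : C} (h : P X) : IsOfFiniteType P X := ⟨X, 𝟙 X, h, inferInstance⟩

/-- Lifting through epimorphisms. -/
theorem LHyp.exists_lift (hP : LHyp P) {Z H F : C} (p : Z ⟶ H) [Epi p] (π : F ⟶ H) (hF : P F) :
    ∃ (F' : C) (q : F' ⟶ Z) (r : F' ⟶ F), P F' ∧ Epi r ∧ q ≫ p = r ≫ π := by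
  obtain ⟨F', v, hF', hv⟩ := hP.ql _ _ (pullback.snd p π) inferInstance hF
  exact ⟨F', v ≫ pullback.fst p π, v ≫ pullback.snd p π, hF', hv, by
    rw [Category.assoc, Category.assoc, pullback.condition]⟩

/-- A surjectivity criterion: the map between kernels induced by a pullback-like square. -/
theorem epi_kernel_map {X Y Z : C} (f : X ⟶ Y) (g : Y ⟶ Z) (hf : Epi f) :
    Epi (kernel.lift g (kernel.ι (f ≫ g) ≫ f) (by rw [Category.assoc, kernel.condition])) := by
  rw [epi_iff_surjective_up_to_refinements]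
  intro A y
  obtain ⟨A', π, hπ, x, hx⟩ := surjective_up_to_refinements_of_epi f (y ≫ kernel.ι g)
  refine ⟨A', π, hπ, kernel.lift _ x ?_, ?_⟩
  · rw [← Category.assoc, ← hx]
    simp
  · rw [← cancel_mono (kernel.ι g)]
    simp [hx]

/-- The kernel of a map from an object of finite type to a precoherent object is of finite type. -/
theorem Precoh.kernel_ft {G H : C} (hH : Precoh P H) (g : G ⟶ H) (hG : IsOfFiniteType P G) :
    IsOfFiniteType P (kernel g) := by
  obtain ⟨E, π, hE, hπ⟩ := hG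
  exact ft_of_epi _ (epi_kernel_map π g hπ) (hH E (π ≫ g) hE)

/-- Subobjects of precoherent objects are precoherent. -/
theorem Precoh.of_mono {G H : C} (hH : Precoh P H) (g : G ⟶ H) (hg : Mono g) : Precoh P G := by
  intro E u hE
  exact ft_of_iso (kernelCompMono u g) (hH E (u ≫ g) hE)

theorem Precoh.of_iso {G H : C} (hH : Precoh P H) (e : H ≅ G) : Precoh P G := hH.of_mono e.inv inferInstance

/-- Extensions of precoherent objects. -/
theorem Precoh.of_shortExact {S : ShortComplex C} (hS : S.ShortExact) (h₁ : Precoh P S.X₁) (h₃ : Precoh P S.X₃) :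
    Precoh P S.X₂ := by
  intro E u hE
  have := hS.mono_f
  have := hS.epi_g
  have hK := h₃ E (u ≫ S.g) hE
  obtain ⟨l, hl⟩ : ∃ l : kernel (u ≫ S.g) ⟶ S.X₁, l ≫ S.f = kernel.ι (u ≫ S.g) ≫ u :=
    ⟨hS.exact.lift (kernel.ι (u ≫ S.g) ≫ u) (by rw [Category.assoc, kernel.condition]), hS.exact.lift_f _ _⟩
  have hK' := h₁.kernel_ft l hK
  refine ft_of_epi (kernel.lift u (kernel.ι l ≫ kernel.ι (u ≫ S.g)) ?_) ?_ hK'
  · rw [Category.assoc, ← hl, kernel.condition_assoc, zero_comp]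
  · rw [epi_iff_surjective_up_to_refinements]
    intro A y
    refine ⟨A, 𝟙 A, inferInstance, kernel.lift l (kernel.lift _ (y ≫ kernel.ι u) ?_) ?_, ?_⟩
    · rw [Category.assoc, kernel.condition_assoc, zero_comp, comp_zero]
    · rw [← cancel_mono S.f, Category.assoc, hl]
      simp
    · rw [← cancel_mono (kernel.ι u)]
      simp

/-- Extensions of objects of finite type. -/
theorem LHyp.ft_of_shortExact (hP : LHyp P) {S : ShortComplex C} (hS : S.ShortExact) (h₁ : IsOfFiniteType P S.X₁)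
    (h₃ : IsOfFiniteType P S.X₃) : IsOfFiniteType P S.X₂ := by
  have := hS.epi_g
  obtain ⟨E₁, π₁, hE₁, hπ₁⟩ := h₁
  obtain ⟨E₃, π₃, hE₃, hπ₃⟩ := h₃
  obtain ⟨E', q, r, hE', hr, hqr⟩ := hP.exists_lift S.g π₃ hE₃
  refine ⟨E₁ ⊞ E', biprod.desc (π₁ ≫ S.f) q, hP.sum hE₁ hE', ?_⟩
  rw [epi_iff_surjective_up_to_refinements]
  intro A y
  obtain ⟨A₁, a₁, ha₁, x₁, hx₁⟩ := surjective_up_to_refinements_of_epi (r ≫ π₃) (y ≫ S.g)
  have h0 : (a₁ ≫ y - x₁ ≫ q) ≫ S.g = 0 := by
    rw [Preadditive.sub_comp, Category.assoc, Category.assoc, hx₁, hqr, sub_self]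
  obtain ⟨A₂, a₂, ha₂, x₂, hx₂⟩ := hS.exact.exact_up_to_refinements _ h0
  obtain ⟨A₃, a₃, ha₃, x₃, hx₃⟩ := surjective_up_to_refinements_of_epi π₁ x₂
  refine ⟨A₃, a₃ ≫ a₂ ≫ a₁, inferInstance, biprod.lift x₃ (a₃ ≫ a₂ ≫ x₁), ?_⟩
  rw [biprod.lift_desc, ← reassoc_of% hx₃, ← hx₂]
  simp

/-- Quotients of precoherent objects by images of objects of finite type. -/
theorem LHyp.precoh_of_exact (hP : LHyp P) {S : ShortComplex C} (hS : S.Exact) (hg : Epi S.g)
    (h₁ : IsOfFiniteType P S.X₁) (h₂ : Precoh P S.X₂) : Precoh P S.X₃ := by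
  intro E u hE
  obtain ⟨F, φ, hF, hφ⟩ := h₁
  obtain ⟨E', q, r, hE', hr, hqr⟩ := hP.exists_lift S.g u hE
  have hK := h₂ (E' ⊞ F) (biprod.desc q (φ ≫ S.f)) (hP.sum hE' hF)
  refine ft_of_epi (kernel.lift u (kernel.ι (biprod.desc q (φ ≫ S.f)) ≫ biprod.fst ≫ r) ?_) ?_ hK
  · rw [Category.assoc, Category.assoc, ← hqr]
    have h1 : kernel.ι (biprod.desc q (φ ≫ S.f)) ≫ (biprod.fst ≫ q ≫ S.g + biprod.snd ≫ φ ≫ S.f ≫ S.g) = 0 := by
      have h2 : biprod.fst ≫ q ≫ S.g + biprod.snd ≫ φ ≫ S.f ≫ S.g = biprod.desc q (φ ≫ S.f) ≫ S.g := by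
        apply biprod.hom_ext' <;> simp
      rw [h2, kernel.condition_assoc, zero_comp]
    simpa using h1
  · rw [epi_iff_surjective_up_to_refinements]
    intro A y
    obtain ⟨A₁, a₁, ha₁, x₁, hx₁⟩ := surjective_up_to_refinements_of_epi r (y ≫ kernel.ι u)
    have h0 : (x₁ ≫ q) ≫ S.g = 0 := by
      rw [Category.assoc, hqr, ← reassoc_of% hx₁, kernel.condition, comp_zero, comp_zero]
    obtain ⟨A₂, a₂, ha₂, x₂, hx₂⟩ := hS.exact_up_to_refinements _ h0
    obtain ⟨A₃, a₃, ha₃, x₃, hx₃⟩ := surjective_up_to_refinements_of_epi φ x₂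
    refine ⟨A₃, a₃ ≫ a₂ ≫ a₁, inferInstance, kernel.lift _ (biprod.lift (a₃ ≫ a₂ ≫ x₁) (-x₃)) ?_, ?_⟩
    · rw [biprod.lift_desc, Preadditive.neg_comp, ← reassoc_of% hx₃, ← hx₂]
      simp
    · rw [← cancel_mono (kernel.ι u)]
      simp [hx₁]

end K225.Coh
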