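import Groth.Agent.PCoh.K225.Att
import Groth.Agent.Pic13.H565.QLift

/-!
# `n`-pseudo-coherent objects of the derived category (punctual case)

`P` is a class of objects of an abelian category satisfying `Hyp P` (stable under isomorphisms and finite sums, quasi-stable
under kernels of epimorphisms and quasi-liftable).

* `NPC P n F`: `F` is isomorphic in the derived category to a strictly `n`-pseudo-coherent complex.
* `exists_lift_strict`: strictly `n`-pseudo-coherent complexes are cofinal.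
* `NPC.obj₃`, `NPC.obj₂`, `NPC.obj₁`: behaviour in triangles.
* `exists_factor`: relative resolutions.
* `NPC.isOfFiniteType`, `NPC.of_isOfFiniteType`: the top cohomology.
-/

set_option autoImplicit false

open CategoryTheory CategoryTheory.Limits CategoryTheory.Pretriangulated CategoryTheory.Triangulated
open scoped ZeroObject

universe w v u

namespace K225.PC

open DerivedCategory CochainComplex CochainComplex.HomComplex Groth.Agent.CalgB.DerTri Groth.Agent.CalgB.DerRes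
  Groth.Agent.Pic13.H565.QLift K225.Att

variable {C : Type u} [Category.{v} C] [Abelian C] {P : ObjectProperty C}

/-- The cycles in the lowest degree, with the quasi-stability as only hypothesis. -/
theorem isOfFiniteType_cycles' (hqs : PCoh.IsQuasiStableUnderKernels P) (E : CochainComplex C ℤ) (n b : ℤ)
    (hb : ∀ i, b < i → IsZero (E.X i)) (hE : ∀ i, n ≤ i → P (E.X i)) (hex : ∀ i, n < i → E.ExactAt i) :
    PCoh.IsOfFiniteType P (E.cycles n) := by
  refine hqs (aug E n) (exactAt_aug E n hex) ⟨(b - n + 2).toNat, fun i hi => ?_⟩ (fun i hi => ?_)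
  · obtain ⟨j, rfl⟩ : ∃ j, i = j + 1 := ⟨i - 1, by omega⟩
    exact hb (n + (j : ℤ)) (by omega)
  · obtain ⟨j, rfl⟩ : ∃ j, i = j + 1 := ⟨i - 1, by omega⟩
    exact hE (n + (j : ℤ)) (by omega)

omit [Abelian C] in
theorem isOfFiniteType_of_epi {X Y : C} (f : X ⟶ Y) [Epi f] (h : PCoh.IsOfFiniteType P X) :
    PCoh.IsOfFiniteType P Y := by
  obtain ⟨E, π, hE, hπ⟩ := h
  exact ⟨E, π ≫ f, hE, epi_comp _ _⟩

theorem isOfFiniteType_of_iso {X Y : C} (e : X ≅ Y) (h : PCoh.IsOfFiniteType P X) :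
    PCoh.IsOfFiniteType P Y := isOfFiniteType_of_epi e.hom h

theorem strictPC_mappingCone (hP : Hyp P) {E K : CochainComplex C ℤ} (f : E ⟶ K) (n : ℤ)
    (hE : PCoh.IsStrictPC P (n + 1) E) (hK : PCoh.IsStrictPC P n K) : PCoh.IsStrictPC P n (mappingCone f) := by
  obtain ⟨⟨b, hb⟩, hE'⟩ := hE
  obtain ⟨⟨b', hb'⟩, hK'⟩ := hK
  exact ⟨⟨max b b', fun i hi => cone_isZero _ i (hb _ (by omega)) (hb' _ (by omega))⟩,
    fun i hi => hP.cone_prop _ i (hE' _ (by omega)) (hK' _ hi)⟩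

theorem strictPC_mono {n m : ℤ} (hnm : n ≤ m) {E : CochainComplex C ℤ} (hE : PCoh.IsStrictPC P n E) :
    PCoh.IsStrictPC P m E := ⟨hE.1, fun i hi => hE.2 i (by omega)⟩

variable [HasDerivedCategory.{w} C]

variable (P) in
/-- `F` is `n`-pseudo-coherent. -/
def NPC (n : ℤ) (F : DerivedCategory C) : Prop :=
  ∃ E : CochainComplex C ℤ, PCoh.IsStrictPC P n E ∧ Nonempty (DerivedCategory.Q.obj E ≅ F)

theorem NPC.of_iso {n : ℤ} {F G : DerivedCategory C} (h : NPC P n F) (e : F ≅ G) : NPC P n G := by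
  obtain ⟨E, hE, ⟨a⟩⟩ := h
  exact ⟨E, hE, ⟨a ≪≫ e⟩⟩

theorem NPC.mono {n m : ℤ} (hnm : n ≤ m) {F : DerivedCategory C} (h : NPC P n F) : NPC P m F := by
  obtain ⟨E, hE, e⟩ := h
  exact ⟨E, strictPC_mono hnm hE, e⟩

theorem NPC.of_isLE (hP : Hyp P) (n n' : ℤ) (hn : n' < n) (F : DerivedCategory C) (hF : F.IsLE n') : NPC P n F := by
  obtain ⟨L, hL, ⟨e⟩⟩ := exists_iso_Q_obj_of_isLE F n'
  have hz : ∀ i : ℤ, n' < i → IsZero (L.X i) := fun i hi => CochainComplex.isZero_of_isStrictlyLE L n' i hi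
  exact ⟨L, ⟨⟨n', hz⟩, fun i hi => hP.zero (hz i (by omega))⟩, ⟨e.symm⟩⟩

theorem NPC.exists_isLE {n : ℤ} {F : DerivedCategory C} (h : NPC P n F) : ∃ b : ℤ, F.IsLE b := by
  obtain ⟨E, ⟨⟨b, hb⟩, -⟩, ⟨e⟩⟩ := h
  have := isLE_of_isZero E b hb
  exact ⟨b, TStructure.t.isLE_of_iso e b⟩

theorem NPC.shift {n : ℤ} {F : DerivedCategory C} (h : NPC P n F) (m k : ℤ) (hk : k + m = n) : NPC P k (F⟦m⟧) := by
  obtain ⟨E, ⟨⟨b, hb⟩, hE⟩, ⟨e⟩⟩ := h
  refine ⟨E⟦m⟧, ⟨⟨b - m, fun i hi => ?_⟩, fun i hi => ?_⟩, ⟨(Q.commShiftIso m).app E ≪≫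
    (CategoryTheory.shiftFunctor (DerivedCategory C) m).mapIso e⟩⟩
  · exact hb (i + m) (by omega)
  · exact hE (i + m) (by omega)

theorem NPC.of_shift {n : ℤ} {F : DerivedCategory C} (m k : ℤ) (hk : k + m = n) (h : NPC P k (F⟦m⟧)) : NPC P n F :=
  (h.shift (-m) n (by omega)).of_iso ((shiftEquiv (DerivedCategory C) m).unitIso.app F).symm

/-- Stagewise data with respect to a set of degrees in which the cells have to be in `P`. -/
theorem exists_lift_strict (hP : Hyp P) {A L : CochainComplex C ℤ} (s : A ⟶ L) [IsIso (Q.map s)] (n : ℤ)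
    (hL : PCoh.IsStrictPC P n L) : ∃ (L' : CochainComplex C ℤ) (t : L' ⟶ A), PCoh.IsStrictPC P n L' ∧
      QuasiIso t := by
  obtain ⟨⟨b, hb⟩, hLP⟩ := hL
  have hA : (Q.obj A).IsLE b := by
    have := isLE_of_isZero L b hb
    exact TStructure.t.isLE_of_iso (asIso (Q.map s)).symm b
  obtain ⟨s₀⟩ : Nonempty (Q.obj A ≅ Q.obj (mappingCone (0 : (0 : CochainComplex C ℤ) ⟶ A))) := by
    have hT := mappingCone_triangle_distinguished (0 : (0 : CochainComplex C ℤ) ⟶ A)
    have h0 : IsIso ((Q.mapTriangle.obj (mappingCone.triangle (0 : (0 : CochainComplex C ℤ) ⟶ A))).mor₂) := by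
      rw [← Triangle.isZero₁_iff_isIso₂ _ hT]
      exact Q.map_isZero (isZero_zero _)
    exact ⟨@asIso _ _ _ _ _ h0⟩
  have hz : ∀ i : ℤ, IsZero ((0 : CochainComplex C ℤ).X i) := fun i =>
    (HomologicalComplex.eval C (ComplexShape.up ℤ) i).map_isZero (isZero_zero _)
  have h : AttData (fun i X => n ≤ i → P X) (0 : (0 : CochainComplex C ℤ) ⟶ A) b :=
    { P_iso := fun i X Y e h hi => hP.iso e (h hi)
      P_zero := fun i X h hi => hP.zero h
      top := fun E ι f m hm _ hE hEP hLE => by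
        by_cases hmn : n ≤ m
        · obtain ⟨e⟩ := cone_iso f (f ≫ s) (Iso.refl _) (asIso (Q.map s)) (by simp)
          have hEz : ∀ i, b < i → IsZero (E.X i) := fun i hi => by
            have := hE i (Or.inr hi)
            exact IsZero.of_iso (hz i) (asIso (ι.f i)).symm
          have hEP' : ∀ i, n ≤ i → P (E.X i) := fun i hi => by
            have h1 : Dir P (ι.f i) := by
              obtain ⟨F, e, hF, he⟩ := hEP i
              exact ⟨F, e, hF hi, he⟩
            exact h1.mem hP.iso hP.sum (hP.zero (hz i))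
          obtain ⟨F, q, hF, hq⟩ := exists_top hP _ (mappingCone (f ≫ s)) e m (max b m)
            (fun i hi => cone_isZero _ i (hEz _ (by omega)) (hb _ (by omega)))
            (fun i hi => hP.cone_prop _ i (hEP' _ (by omega)) (hLP _ (by omega))) hLE
          exact ⟨F, q, fun _ => hF, hq⟩
        · refine ⟨_, 𝟙 _, fun h => absurd h hmn, ?_⟩
          rw [Category.id_comp]
          infer_instance }
  obtain ⟨E, ι, f, -, hf, hE, hE'⟩ := exists_factorization h (TStructure.t.isLE_of_iso s₀ b)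
  refine ⟨E, f, ⟨⟨b, fun i hi => ?_⟩, fun i hi => ?_⟩, hf⟩
  · have := hE' i hi
    exact IsZero.of_iso (hz i) (asIso (ι.f i)).symm
  · have h1 : Dir P (ι.f i) := by
      obtain ⟨F, e, hF, he⟩ := hE i
      exact ⟨F, e, hF hi, he⟩
    exact h1.mem hP.iso hP.sum (hP.zero (hz i))

/-- The third object of a distinguished triangle, represented by a mapping cone. -/
theorem exists_mappingCone (hP : Hyp P) (n : ℤ) {T : Triangle (DerivedCategory C)} (hT : T ∈ distTriang (DerivedCategory C))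
    (h₁ : NPC P (n + 1) T.obj₁) (h₂ : NPC P n T.obj₂) : NPC P n T.obj₃ := by
  obtain ⟨E, hE, ⟨e₁⟩⟩ := h₁
  obtain ⟨F, hF, ⟨e₂⟩⟩ := h₂
  obtain ⟨A, s, hs, g, hg⟩ := right_fac (e₁.hom ≫ T.mor₁ ≫ e₂.inv)
  obtain ⟨L', t, hL', ht⟩ := exists_lift_strict hP s (n + 1) hE
  have : IsIso (Q.map t) := by rw [isIso_Q_map_iff_quasiIso]; exact ht
  let a : Q.obj L' ≅ T.obj₁ := (asIso (Q.map t) ≪≫ asIso (Q.map s)) ≪≫ e₁
  have h1 : e₁.hom ≫ T.mor₁ = inv (Q.map s) ≫ Q.map g ≫ e₂.hom := by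
    rw [← Category.assoc, ← hg]
    simp
  have h2 : Q.map (t ≫ g) ≫ e₂.hom = a.hom ≫ T.mor₁ := by
    simp only [a, Iso.trans_hom, Category.assoc, h1]
    simp
  exact ⟨mappingCone (t ≫ g), strictPC_mappingCone hP _ n hL' hF, ⟨Triangle.π₃.mapIso
    (isoTriangleOfIso₁₂ _ _ (mappingCone_triangle_distinguished (t ≫ g)) hT a e₂ h2)⟩⟩

theorem NPC.obj₃ (hP : Hyp P) (n : ℤ) {T : Triangle (DerivedCategory C)} (hT : T ∈ distTriang (DerivedCategory C))
    (h₁ : NPC P (n + 1) T.obj₁) (h₂ : NPC P n T.obj₂) : NPC P n T.obj₃ := exists_mappingCone hP n hT h₁ h₂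

theorem NPC.obj₂ (hP : Hyp P) (n : ℤ) {T : Triangle (DerivedCategory C)} (hT : T ∈ distTriang (DerivedCategory C))
    (h₁ : NPC P n T.obj₁) (h₃ : NPC P n T.obj₃) : NPC P n T.obj₂ :=
  NPC.obj₃ hP n (inv_rot_of_distTriang _ hT) (h₃.shift (-1) (n + 1) (by omega)) h₁

theorem NPC.obj₁ (hP : Hyp P) (n : ℤ) {T : Triangle (DerivedCategory C)} (hT : T ∈ distTriang (DerivedCategory C))
    (h₂ : NPC P (n + 1) T.obj₂) (h₃ : NPC P n T.obj₃) : NPC P (n + 1) T.obj₁ :=
  NPC.obj₂ hP (n + 1) (inv_rot_of_distTriang _ hT) (h₃.shift (-1) (n + 1) (by omega)) h₂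

end K225.PC
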