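import Groth.Agent.PCoh.K225.PC2
import Groth.Agent.PCoh.K225.Coh

/-!
# `n`-pseudo-coherent objects of the derived category (punctual case), III

* `NPC.of_homology`: objects whose cohomology objects are pseudo-coherent to the appropriate order.
* `NPC.biprod_iff`: direct sums.
* `NPC.ses₁`, `NPC.ses₂`, `NPC.ses₃`: short exact sequences in the abelian category.
* `mem_zero_of_exact`: dévissage of bounded exact complexes.
-/

set_option autoImplicit false

open CategoryTheory CategoryTheory.Limits CategoryTheory.Pretriangulated CategoryTheory.Triangulated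
open scoped ZeroObject

universe w v u

namespace K225.PC

open DerivedCategory CochainComplex CochainComplex.HomComplex Groth.Agent.CalgB.DerTri Groth.Agent.CalgB.DerRes
  Groth.Agent.Pic13.H565.QLift K225.Att

variable {C : Type u} [Category.{v} C] [Abelian C] {P : ObjectProperty C}

section

variable [HasDerivedCategory.{w} C]

theorem NPC.of_isZero (hP : Hyp P) (n : ℤ) {F : DerivedCategory C} (hF : IsZero F) : NPC P n F := by
  refine NPC.of_isLE hP _ (n - 1) (by omega) _ ?_
  rw [DerivedCategory.isLE_iff]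
  intro j _
  exact (homologyFunctor C j).map_isZero hF

theorem NPC.of_homology (hP : Hyp P) (n : ℤ) (k : ℕ) : ∀ (F : DerivedCategory C) (_ : F.IsLE (n + k - 1))
    (_ : ∀ i : ℤ, n ≤ i → NPC P (n - i) ((DerivedCategory.singleFunctor C 0).obj ((homologyFunctor C i).obj F))),
    NPC P n F := by
  induction k with
  | zero =>
    intro F hb _
    exact NPC.of_isLE hP n _ (by push_cast; omega) F hb
  | succ k ih =>
    intro F hb hF
    obtain ⟨X, Y, hX, hY, f, g, h, hT⟩ := TStructure.t.exists_triangle F (n + k - 1) (n + k) (by omega)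
    have hX' : X.IsLE (n + k - 1) := ⟨hX⟩
    have hY' : Y.IsGE (n + k) := ⟨hY⟩
    have hb' : F.IsLE (n + k) := by
      have : n + ((k + 1 : ℕ) : ℤ) - 1 = n + k := by push_cast; ring
      rw [← this]
      exact hb
    have hYLE : Y.IsLE (n + k) := isLE_obj₃ hT (n + k)
      (TStructure.t.isLE_of_le X (n + k - 1) (n + k + 1) (by omega)) hb'
    have hXz : ∀ i, n + k ≤ i → IsZero ((homologyFunctor C i).obj X) := fun i hi =>
      isZero_of_isLE X (n + k - 1) i (by omega)
    have hYz : ∀ i, i < n + k → IsZero ((homologyFunctor C i).obj Y) := fun i hi =>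
      isZero_of_isGE Y (n + k) i (by omega)
    -- the cohomology of `X`
    have h1 : ∀ i, i < n + k → IsIso ((homologyFunctor C i).map f) := fun i hi => by
      have : Epi ((homologyFunctor C i).map f) :=
        (HomologySequence.epi_homologyMap_mor₁_iff _ hT i).2 ((hYz i hi).eq_of_tgt _ _)
      have : Mono ((homologyFunctor C i).map f) :=
        (HomologySequence.mono_homologyMap_mor₁_iff _ hT (i - 1) i (by omega)).2
          ((hYz _ (by omega)).eq_of_src _ _)
      exact isIso_of_mono_of_epi _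
    -- the cohomology of `Y`
    have h2 : IsIso ((homologyFunctor C (n + k)).map g) := by
      have : Epi ((homologyFunctor C (n + k)).map g) :=
        (HomologySequence.epi_homologyMap_mor₂_iff _ hT (n + k) (n + k + 1) rfl).2
          ((hXz _ (by omega)).eq_of_tgt _ _)
      have : Mono ((homologyFunctor C (n + k)).map g) :=
        (HomologySequence.mono_homologyMap_mor₂_iff _ hT (n + k)).2 ((hXz _ (by omega)).eq_of_src _ _)
      exact isIso_of_mono_of_epi _
    refine NPC.obj₂ hP n hT ?_ ?_
    · change NPC P n X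
      refine ih X hX' (fun i hi => ?_)
      by_cases hi' : i < n + k
      · have := h1 i hi'
        exact (hF i hi).of_iso ((DerivedCategory.singleFunctor C 0).mapIso
          (asIso ((homologyFunctor C i).map f)).symm)
      · exact NPC.of_isZero hP _ ((DerivedCategory.singleFunctor C 0).map_isZero (hXz i (by omega)))
    · change NPC P n Y
      obtain ⟨A, ⟨e⟩⟩ := exists_iso_singleFunctor_obj_of_isGE_of_isLE Y (n + k)
      let e' : (homologyFunctor C (n + k)).obj Y ≅ A :=
        (homologyFunctor C (n + k)).mapIso e ≪≫ ((homologyFunctor C (n + k)).mapIso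
          ((singleFunctorIsoCompQ C (n + k)).app A)) ≪≫ (homologyFunctorFactors C (n + k)).app _ ≪≫
          (HomologicalComplex.homologyFunctorSingleIso C (ComplexShape.up ℤ) (n + k)).app A
      refine NPC.of_iso ?_ e.symm
      refine NPC.single (m := n - (n + k)) (by omega) ?_
      exact (hF (n + k) (by omega)).of_iso ((DerivedCategory.singleFunctor C 0).mapIso
          (asIso ((homologyFunctor C (n + k)).map g) ≪≫ e'))

theorem NPC.biprod (hP : Hyp P) (n : ℤ) {F G : DerivedCategory C} (hF : NPC P n F) (hG : NPC P n G) :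
    NPC P n (F ⊞ G) :=
  NPC.obj₂ hP n (binaryBiproductTriangle_distinguished F G) hF hG

/-- If `F ⊞ G` is `n`-pseudo-coherent, so is `F`. -/
theorem NPC.of_biprod (hP : Hyp P) (n : ℤ) (F G : DerivedCategory C) (h : NPC P n (F ⊞ G)) :
    NPC P n F ∧ NPC P n G := by
  obtain ⟨b, hb⟩ := h.exists_isLE
  have hF : F.IsLE b := by
    rw [DerivedCategory.isLE_iff] at hb ⊢
    intro i hi
    have h1 : 𝟙 F = biprod.inl ≫ (biprod.fst : F ⊞ G ⟶ F) := by simp
    rw [IsZero.iff_id_eq_zero, ← CategoryTheory.Functor.map_id, h1, Functor.map_comp,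
      (hb i hi).eq_of_tgt ((homologyFunctor C i).map biprod.inl) 0, zero_comp]
  have hG : G.IsLE b := by
    rw [DerivedCategory.isLE_iff] at hb ⊢
    intro i hi
    have h1 : 𝟙 G = biprod.inr ≫ (biprod.snd : F ⊞ G ⟶ G) := by simp
    rw [IsZero.iff_id_eq_zero, ← CategoryTheory.Functor.map_id, h1, Functor.map_comp,
      (hb i hi).eq_of_tgt ((homologyFunctor C i).map biprod.inr) 0, zero_comp]
  have key : ∀ k : ℕ, n ≤ b + 1 - k → NPC P (b + 1 - k) F ∧ NPC P (b + 1 - k) G := by
    intro k
    induction k with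
    | zero =>
      intro _
      exact ⟨NPC.of_isLE hP _ b (by push_cast; omega) F hF, NPC.of_isLE hP _ b (by push_cast; omega) G hG⟩
    | succ k ih =>
      intro hk
      push_cast at hk
      obtain ⟨h1, h2⟩ := ih (by omega)
      have h3 : NPC P (b + 1 - ((k + 1 : ℕ) : ℤ)) (F ⊞ G) := h.mono (by push_cast; omega)
      have h4 : b + 1 - ((k + 1 : ℕ) : ℤ) + 1 = b + 1 - k := by push_cast; ring
      constructor
      · have h5 : NPC P (b + 1 - ((k + 1 : ℕ) : ℤ)) (G ⊞ F) := h3.of_iso (biprod.braiding F G)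
        exact NPC.obj₃ hP _ (binaryBiproductTriangle_distinguished G F) (by rw [h4]; exact h2) h5
      · exact NPC.obj₃ hP _ (binaryBiproductTriangle_distinguished F G) (by rw [h4]; exact h1) h3
  by_cases hnb : n ≤ b
  · obtain ⟨k, hk⟩ : ∃ k : ℕ, b + 1 - k = n := ⟨(b + 1 - n).toNat, by omega⟩
    have := key k hk.ge
    rwa [hk] at this
  · exact ⟨NPC.of_isLE hP _ b (by omega) F hF, NPC.of_isLE hP _ b (by omega) G hG⟩

theorem NPC.ses₁ (hP : Hyp P) (n : ℤ) {S : ShortComplex C} (hS : S.ShortExact)
    (h₂ : NPC P (n + 1) ((DerivedCategory.singleFunctor C 0).obj S.X₂))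
    (h₃ : NPC P n ((DerivedCategory.singleFunctor C 0).obj S.X₃)) :
    NPC P (n + 1) ((DerivedCategory.singleFunctor C 0).obj S.X₁) :=
  NPC.obj₁ hP n hS.singleTriangle_distinguished h₂ h₃

theorem NPC.ses₂ (hP : Hyp P) (n : ℤ) {S : ShortComplex C} (hS : S.ShortExact)
    (h₁ : NPC P n ((DerivedCategory.singleFunctor C 0).obj S.X₁))
    (h₃ : NPC P n ((DerivedCategory.singleFunctor C 0).obj S.X₃)) :
    NPC P n ((DerivedCategory.singleFunctor C 0).obj S.X₂) :=
  NPC.obj₂ hP n hS.singleTriangle_distinguished h₁ h₃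

theorem NPC.ses₃ (hP : Hyp P) (n : ℤ) {S : ShortComplex C} (hS : S.ShortExact)
    (h₁ : NPC P (n + 1) ((DerivedCategory.singleFunctor C 0).obj S.X₁))
    (h₂ : NPC P n ((DerivedCategory.singleFunctor C 0).obj S.X₂)) :
    NPC P n ((DerivedCategory.singleFunctor C 0).obj S.X₃) :=
  NPC.obj₃ hP n hS.singleTriangle_distinguished h₁ h₂

/-- `0`-pseudo-coherent means of finite type. -/
theorem NPC.zero_iff (hP : Hyp P) (X : C) :
    NPC P 0 ((DerivedCategory.singleFunctor C 0).obj X) ↔ PCoh.IsOfFiniteType P X := by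
  let e' : (homologyFunctor C 0).obj ((DerivedCategory.singleFunctor C 0).obj X) ≅ X :=
    ((homologyFunctor C 0).mapIso ((singleFunctorIsoCompQ C 0).app X)) ≪≫ (homologyFunctorFactors C 0).app _ ≪≫
          (HomologicalComplex.homologyFunctorSingleIso C (ComplexShape.up ℤ) 0).app X
  constructor
  · intro h
    exact isOfFiniteType_of_iso e' (h.isOfFiniteType hP.qs inferInstance)
  · intro h
    exact NPC.of_isOfFiniteType hP 0 _ inferInstance (isOfFiniteType_of_iso e'.symm h)

end

section Exact

variable {Pr : ObjectProperty C}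

/-- The short exact sequence `0 → Z^i → K^i → Z^{i+1} → 0`. -/
theorem cycles_ses (K : CochainComplex C ℕ) (i : ℕ) (h : K.ExactAt (i + 1)) :
    (ShortComplex.mk (K.iCycles i) (K.toCycles i (i + 1)) (by
      rw [← cancel_mono (K.iCycles (i + 1))]; simp)).ShortExact := by
  have hz : K.iCycles i ≫ K.toCycles i (i + 1) = 0 := by
    rw [← cancel_mono (K.iCycles (i + 1))]; simp
  refine { exact := ?_, mono_f := by dsimp; infer_instance, epi_g := ?_ }
  · rw [ShortComplex.exact_iff_exact_up_to_refinements]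
    intro A x hx
    dsimp at x hx
    have hx' : x ≫ K.d i (i + 1) = 0 := by
      rw [← K.toCycles_i i (i + 1), ← Category.assoc, hx, zero_comp]
    refine ⟨A, 𝟙 A, inferInstance, K.liftCycles x (i + 1) (by simp) hx', ?_⟩
    rw [Category.id_comp]
    exact (K.liftCycles_i x (i + 1) _ hx').symm
  · dsimp
    rw [epi_iff_surjective_up_to_refinements]
    intro A y
    rw [K.exactAt_iff' i (i + 1) (i + 2) (by simp) (by simp)] at h
    obtain ⟨A', π, hπ, x, hx⟩ := h.exact_up_to_refinements (y ≫ K.iCycles (i + 1)) (by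
      change (y ≫ K.iCycles (i + 1)) ≫ K.d (i + 1) (i + 2) = 0
      rw [Category.assoc, K.iCycles_d, comp_zero])
    change A' ⟶ K.X i at x
    change π ≫ y ≫ K.iCycles (i + 1) = x ≫ K.d i (i + 1) at hx
    refine ⟨A', π, hπ, x, ?_⟩
    rw [← cancel_mono (K.iCycles (i + 1)), Category.assoc, hx, Category.assoc, K.toCycles_i]

/-- Dévissage of bounded exact complexes. -/
theorem mem_zero_of_exact (hiso : ∀ {X Y : C}, (X ≅ Y) → Pr X → Pr Y) (hz : ∀ {X : C}, IsZero X → Pr X)
    (hker : ∀ (S : ShortComplex C), S.ShortExact → Pr S.X₂ → Pr S.X₃ → Pr S.X₁)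
    (K : CochainComplex C ℕ) (hK : ∀ i, K.ExactAt i) (N : ℕ) (hN : ∀ i, N < i → IsZero (K.X i))
    (h : ∀ i, 1 ≤ i → Pr (K.X i)) : Pr (K.X 0) := by
  have key : ∀ k i : ℕ, 1 ≤ i → i + k = N + 1 → Pr (K.cycles i) := by
    intro k
    induction k with
    | zero =>
      intro i hi hik
      exact hz (IsZero.of_mono (K.iCycles i) (hN i (by omega)))
    | succ k ih =>
      intro i hi hik
      exact hker _ (cycles_ses K i (hK (i + 1))) (h i hi) (ih (i + 1) (by omega) (by omega))
  have h1 : Pr (K.cycles 1) := key N 1 le_rfl (by omega)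
  have h2 := cycles_ses K 0 (hK 1)
  have h3 : Epi (K.toCycles 0 1) := h2.epi_g
  have h4 : Mono (K.toCycles 0 1) := by
    have h5 := hK 0
    rw [K.exactAt_iff' 0 0 1 (by simp) (by simp), ShortComplex.exact_iff_mono _ (by
      change K.d 0 0 = 0
      exact K.shape _ _ (by simp))] at h5
    have h6 : Mono (K.toCycles 0 1 ≫ K.iCycles 1) := by
      rw [K.toCycles_i]
      exact h5
    exact mono_of_mono _ (K.iCycles 1)
  have h5 : IsIso (K.toCycles 0 1) := isIso_of_mono_of_epi _
  exact hiso (asIso (K.toCycles 0 1)).symm h1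

end Exact

end K225.PC
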