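import Groth.Agent.PCoh.K225.PC3

/-!
# Perfect complexes relative to a liftable class stable under kernels of epimorphisms (punctual case)
-/

set_option autoImplicit false

open CategoryTheory CategoryTheory.Limits CategoryTheory.Pretriangulated CategoryTheory.Triangulated
open scoped ZeroObject

universe w v u

namespace K225.Perf

open DerivedCategory CochainComplex CochainComplex.HomComplex Groth.Agent.CalgB.DerTri Groth.Agent.CalgB.DerRes
  Groth.Agent.Pic13.H565.QLift K225.Att K225.PC

variable {C : Type u} [Category.{v} C] [Abelian C] {P : ObjectProperty C}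

/-- Liftability and stability under kernels of epimorphisms. -/
structure PHyp (P : ObjectProperty C) : Prop where
  iso : ∀ {X Y : C}, (X ≅ Y) → P X → P Y
  zero : ∀ {X : C}, IsZero X → P X
  sum : ∀ {X Y : C}, P X → P Y → P (X ⊞ Y)
  proj : ∀ {X : C}, P X → Projective X
  ker : ∀ (S : ShortComplex C), S.ShortExact → P S.X₂ → P S.X₃ → P S.X₁

theorem projective_of_lift (hlift : ∀ (E F : C) (u : E ⟶ F), Epi u → P F → IsSplitEpi u) {X : C} (h : P X) :
    Projective X where
  factors {E Y} f e he := by
    have := hlift _ _ (pullback.fst f e) inferInstance h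
    refine ⟨section_ (pullback.fst f e) ≫ pullback.snd f e, ?_⟩
    rw [Category.assoc, ← pullback.condition, IsSplitEpi.id_assoc]

theorem PHyp.mk' (P : ObjectProperty C) [P.IsClosedUnderIsomorphisms] [P.ContainsZero]
    (hsum : ∀ X Y : C, P X → P Y → P (X ⨯ Y))
    (hlift : ∀ (E F : C) (u : E ⟶ F), Epi u → P F → IsSplitEpi u)
    (hst : ∀ (E F : C) (u : E ⟶ F), Epi u → P E → P F → P (kernel u)) : PHyp P where
  iso e h := P.prop_of_iso e h
  zero {X} hX := by
    obtain ⟨Z, hZ, hPZ⟩ := ObjectProperty.ContainsZero.exists_zero (P := P)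
    exact P.prop_of_iso (hZ.iso hX) hPZ
  sum {X Y} hX hY := P.prop_of_iso (biprod.isoProd X Y).symm (hsum X Y hX hY)
  proj h := projective_of_lift hlift h
  ker S hS h₂ h₃ := by
    have := hS.mono_f
    have := hS.epi_g
    exact P.prop_of_iso (IsLimit.conePointUniqueUpToIso (limit.isLimit _) hS.exact.fIsKernel)
      (hst _ _ S.g inferInstance h₂ h₃)

theorem PHyp.toHyp (hP : PHyp P) : Hyp P where
  iso := hP.iso
  zero := hP.zero
  sum := hP.sum
  qs := by
    rintro K hK ⟨N, hN⟩ h
    exact ⟨K.X 0, 𝟙 _, mem_zero_of_exact hP.iso hP.zero hP.ker K hK N hN h, inferInstance⟩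
  ql := by
    intro E F u hu hF
    have := hP.proj hF
    exact ⟨F, Projective.factorThru (𝟙 F) u, hF, by rw [Projective.factorThru_comp]; infer_instance⟩

/-- The cycles in the lowest degree. -/
theorem PHyp.cycles (hP : PHyp P) (E : CochainComplex C ℤ) (n b : ℤ)
    (hb : ∀ i, b < i → IsZero (E.X i)) (hE : ∀ i, n ≤ i → P (E.X i)) (hex : ∀ i, n < i → E.ExactAt i) :
    P (E.cycles n) := by
  refine mem_zero_of_exact hP.iso hP.zero hP.ker (aug E n) (exactAt_aug E n hex) (b - n + 2).toNat
    (fun i hi => ?_) (fun i hi => ?_)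
  · obtain ⟨j, rfl⟩ : ∃ j, i = j + 1 := ⟨i - 1, by omega⟩
    exact hb (n + (j : ℤ)) (by omega)
  · obtain ⟨j, rfl⟩ : ∃ j, i = j + 1 := ⟨i - 1, by omega⟩
    exact hE (n + (j : ℤ)) (by omega)

/-- The short exact sequence `0 → Z^i → K^i → Z^{i+1} → 0`. -/
theorem cycles_ses' (K : CochainComplex C ℤ) (i : ℤ) (h : K.ExactAt (i + 1)) :
    (ShortComplex.mk (K.iCycles i) (K.toCycles i (i + 1)) (by
      rw [← cancel_mono (K.iCycles (i + 1))]; simp)).ShortExact := by
  have hz : K.iCycles i ≫ K.toCycles i (i + 1) = 0 := by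
    rw [← cancel_mono (K.iCycles (i + 1))]; simp
  refine { exact := ?_, mono_f := by dsimp; infer_instance, epi_g := ?_ }
  · rw [ShortComplex.exact_iff_exact_up_to_refinements]
    intro A x hx
    dsimp at x hx
    have hx' : x ≫ K.d i (i + 1) = 0 := by
      rw [← K.toCycles_i i (i + 1), ← Category.assoc, hx, zero_comp]
    refine ⟨A, 𝟙 A, inferInstance, K.liftCycles x (i + 1) (by simp) hx', ?_⟩
    rw [Category.id_comp]
    exact (K.liftCycles_i x (i + 1) _ hx').symm
  · dsimp
    rw [epi_iff_surjective_up_to_refinements]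
    intro A y
    rw [K.exactAt_iff' i (i + 1) (i + 2) (by simp) (by simp; omega)] at h
    obtain ⟨A', π, hπ, x, hx⟩ := h.exact_up_to_refinements (y ≫ K.iCycles (i + 1)) (by
      change (y ≫ K.iCycles (i + 1)) ≫ K.d (i + 1) (i + 2) = 0
      rw [Category.assoc, K.iCycles_d, comp_zero])
    change A' ⟶ K.X i at x
    change π ≫ y ≫ K.iCycles (i + 1) = x ≫ K.d i (i + 1) at hx
    refine ⟨A', π, hπ, x, ?_⟩
    rw [← cancel_mono (K.iCycles (i + 1)), Category.assoc, hx, Category.assoc, K.toCycles_i]

variable [HasDerivedCategory.{w} C]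

/-- Bounded above complexes of projectives: morphisms in the derived category come from morphisms of complexes. -/
theorem PHyp.exists_map (hP : PHyp P) (E L : CochainComplex C ℤ) (b : ℤ) (hb : ∀ i, b < i → IsZero (E.X i))
    (hE : ∀ i, P (E.X i)) (α : Q.obj E ⟶ Q.obj L) : ∃ f : E ⟶ L, Q.map f = α := by
  have : E.IsStrictlyLE b := by
    rw [CochainComplex.isStrictlyLE_iff]
    exact hb
  have : ∀ i, Projective (E.X i) := fun i => hP.proj (hE i)
  have := CochainComplex.isKProjective_of_projective E b
  exact Q_map_surjective_of_isKProjective E L α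

theorem PHyp.first_term (hP : PHyp P) (a b : ℤ) (F : CochainComplex C ℤ)
    (hvan : ∀ i : ℤ, i < a ∨ b < i → IsZero (F.X i)) (hF : ∀ i : ℤ, a < i → P (F.X i))
    (E : CochainComplex C ℤ) (hE : ∀ i : ℤ, P (E.X i)) (hE' : ∀ i : ℤ, i < a ∨ b < i → IsZero (E.X i))
    (e : Q.obj E ≅ Q.obj F) : P (F.X a) := by
  obtain ⟨f, hf⟩ := hP.exists_map E F b (fun i hi => hE' i (Or.inr hi)) hE e.hom
  have hfi : IsIso (Q.map f) := by rw [hf]; infer_instance
  have hex : ∀ i, (mappingCone f).ExactAt i := by
    have h1 : IsZero (Q.obj (mappingCone f)) := by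
      have hT := mappingCone_triangle_distinguished f
      have : IsIso (Q.mapTriangle.obj (mappingCone.triangle f)).mor₁ := hfi
      exact (Triangle.isZero₃_iff_isIso₁ _ hT).2 this
    intro i
    rw [HomologicalComplex.exactAt_iff_isZero_homology]
    exact IsZero.of_iso ((homologyFunctor C i).map_isZero h1) ((homologyFunctorFactors C i).app _).symm
  have hMz : ∀ i, i < a - 1 ∨ b < i → IsZero ((mappingCone f).X i) := fun i hi =>
    cone_isZero f i (hE' _ (by omega)) (hvan _ (by omega))
  have hMP : ∀ i, a < i → P ((mappingCone f).X i) := fun i hi =>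
    hP.toHyp.cone_prop f i (hE _) (hF _ hi)
  have h1 : P ((mappingCone f).cycles (a + 1)) := hP.cycles (mappingCone f) (a + 1) b
    (fun i hi => hMz i (Or.inr hi)) (fun i hi => hMP i (by omega)) (fun i _ => hex i)
  have hM1 : P ((mappingCone f).X (a - 1)) :=
    hP.toHyp.cone_prop f (a - 1) (hE _) (hP.zero (hvan _ (by omega)))
  have h2 : P ((mappingCone f).cycles a) := by
    have h3 := cycles_ses' (mappingCone f) (a - 1) (hex _)
    have h4 : (mappingCone f).cycles (a - 1) ≅ (mappingCone f).X (a - 2) := by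
      refine IsZero.iso ?_ (hMz _ (by omega))
      have h5 := cycles_ses' (mappingCone f) (a - 2) (hex _)
      have h6 : IsZero ((mappingCone f).cycles (a - 2 + 1)) := by
        have := h5.epi_g
        exact IsZero.of_epi ((mappingCone f).toCycles (a - 2) (a - 2 + 1)) (hMz _ (by omega))
      have h7 : a - 2 + 1 = a - 1 := by ring
      rwa [h7] at h6
    have h5 : IsZero ((mappingCone f).cycles (a - 1)) := IsZero.of_iso (hMz _ (by omega)) h4
    have h6 : IsIso ((mappingCone f).toCycles (a - 1) (a - 1 + 1)) := by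
      have : Epi ((mappingCone f).toCycles (a - 1) (a - 1 + 1)) := h3.epi_g
      have : Mono ((mappingCone f).toCycles (a - 1) (a - 1 + 1)) :=
        (ShortComplex.exact_iff_mono _ (h5.eq_of_src _ _)).1 h3.exact
      exact isIso_of_mono_of_epi _
    have h7 := hP.iso (asIso ((mappingCone f).toCycles (a - 1) (a - 1 + 1))) hM1
    have h8 : a - 1 + 1 = a := by ring
    rwa [h8] at h7
  have h3 := cycles_ses' (mappingCone f) a (hex _)
  have h4 : P ((mappingCone f).X a) := by
    have := hP.proj h1
    have h6 := h3.mono_f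
    have h7 := h3.epi_g
    let s := ShortComplex.Splitting.ofExactOfSection _ h3.exact
        (Projective.factorThru (𝟙 _) ((mappingCone f).toCycles a (a + 1)))
        (Projective.factorThru_comp _ _) h6
    exact hP.iso s.isoBinaryBiproduct.symm (hP.sum h2 h1)
  have h5 : P (E.X (a + 1) ⊞ F.X a) := hP.iso (coneXIso f a (a + 1) rfl) h4
  refine hP.ker (ShortComplex.mk (biprod.inr : F.X a ⟶ E.X (a + 1) ⊞ F.X a) biprod.fst (by simp)) ?_ h5 (hE _)
  exact { exact := (ShortComplex.Splitting.mk biprod.snd biprod.inl (by simp) (by simp) (by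
      dsimp; rw [add_comm (biprod.snd ≫ _)]; exact biprod.total)).exact
          mono_f := by dsimp; infer_instance
          epi_g := by dsimp; infer_instance }

end K225.Perf
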